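import Groth.Agent.Lib.EnoughAff14.Stage
import Groth.Agent.Lib.AlgSpDecent.QSDecent
import Groth.Agent.S10042

/-!
# Descent from the algebraic closure when there are enough affine opens
-/

universe u

set_option backward.isDefEq.respectTransparency.types false
set_option backward.isDefEq.respectTransparency false
set_option linter.unusedVariables false

open CategoryTheory CategoryTheory.Limits AlgebraicGeometry Opposite

namespace Groth.Agent.EnoughAff14

open AlgSp Groth.Agent.AlgSpace Groth.Agent.AlgSpDecent Groth.Agent.FieldSpread14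
  Groth.Agent.GrpScheme14

noncomputable section

set_option maxHeartbeats 1000000

variable {k : Type u} [Field k]

/-- An algebraic element of an extension of an algebraically closed field lies in it. -/
theorem exists_factor {κ K M : Type u} [Field κ] [Algebra k κ] [Algebra.IsIntegral k κ] [Field K] [IsAlgClosed K]
    [Algebra k K] [Field M] [Algebra k M] (β : κ →ₐ[k] M) (γ : K →ₐ[k] M) :
    ∃ σ : κ →ₐ[k] K, γ.comp σ = β := by
  let : Algebra K M := γ.toRingHom.toAlgebra
  have : IsScalarTower k K M := IsScalarTower.of_algebraMap_eq fun c => (γ.commutes c).symm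
  have h : ∀ y, ∃ c : K, γ c = β y := fun y => by
    have hy : IsIntegral K (β y) := ((Algebra.IsIntegral.isIntegral (R := k) y).map β).tower_top
    obtain ⟨c, hc⟩ := minpoly.mem_range_of_degree_eq_one K (β y)
      (IsAlgClosed.degree_eq_one_of_irreducible K (minpoly.irreducible hy))
    exact ⟨c, hc⟩
  choose s hs using h
  have hinj : Function.Injective γ := γ.toRingHom.injective
  exact ⟨{ toFun := s
           map_one' := hinj (by rw [hs, map_one, map_one])
           map_mul' := fun a b => hinj (by rw [hs, map_mul, map_mul, hs, hs])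
           map_zero' := hinj (by rw [hs, map_zero, map_zero])
           map_add' := fun a b => hinj (by rw [hs, map_add, map_add, hs, hs])
           commutes' := fun c => hinj (by rw [hs, AlgHom.commutes, AlgHom.commutes]) }, AlgHom.ext hs⟩

theorem isRepresentable_of_enough (X : AlgSp.Space (Spec (CommRingCat.of k)))
    (hdec : IsDecent X.obj) (p : X.obj ⟶ (yon (Spec (CommRingCat.of k))).obj (Over.mk (𝟙 _)))
    (hp : LocP @LocallyOfFiniteType p) (K : Type u) [Field K] [Algebra k K] [IsAlgClosure k K]
    (T : Over (Spec (CommRingCat.of k))) (e : (yon _).obj T ≅ X.obj ⨯ (yon _).obj (spec k K))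
    (q : T ⟶ spec k K) (hq : (yon _).map q = e.hom ≫ Limits.prod.snd)
    (h3 : ∀ s : Finset ↥T.left,
      (∀ t ∈ s, ∃ σ : Spec (CommRingCat.of K) ⟶ T.left, σ ≫ q.left = 𝟙 _ ∧ σ (IsLocalRing.closedPoint K) = t) →
        ∃ W : T.left.Opens, IsAffineOpen W ∧ ∀ t ∈ s, t ∈ W) :
    X.obj.obj.IsRepresentable := by
  have := IsAlgClosure.isAlgClosed (R := k) (K := K)
  have : Algebra.IsIntegral k K := Algebra.IsAlgebraic.isIntegral
  have hlft : ∀ {U : Over (Spec (CommRingCat.of k))} (a : (yon _).obj U ⟶ X.obj), RepWith @Etale a →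
      LocallyOfFiniteType U.hom := fun {U} a ha => by
    obtain ⟨h, hh⟩ := (yon _).map_surjective (a ≫ p)
    have := hp a (𝟙 _) h ha (repWith_id _ _) (by rw [hh, Category.comp_id])
    have hw : h.left = U.hom := by have := Over.w h; simpa using this
    rwa [hw] at this
  obtain ⟨U₀, a₀, ha₀, hs₀⟩ := X.property.atlas
  have hN : IsLocNoethSp X.obj := by
    have := hlft a₀ ha₀
    exact ⟨U₀, a₀, ha₀, hs₀, LocallyOfFiniteType.isLocallyNoetherian U₀.hom⟩
  have hqs := isQuasiSeparatedSp_of_isDecent X.property hN hdec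
  have cov : ∀ x : Points X.obj, ∃ (W : Over (Spec (CommRingCat.of k))) (w : (yon _).obj W ⟶ X.obj),
      RepWith @IsOpenImmersion w ∧ x ∈ Set.range (Points.map w) := by
    intro x
    obtain ⟨U, a, hU, ha, u₁, rfl⟩ := exists_affine_chart_at X.property x
    let B : Type u := Γ(U.left, ⊤)
    let : Algebra k B := (Spec.preimage (U.left.isoSpec.inv ≫ U.hom)).hom.toAlgebra
    let eU : spec k B ≅ U := Over.isoMk U.left.isoSpec.symm (by
      show U.left.isoSpec.inv ≫ U.hom = Spec.map _
      exact (Spec.map_preimage _).symm)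
    have : Algebra.FiniteType k B := by
      have := hlft a ha
      have h : LocallyOfFiniteType (Spec.map (CommRingCat.ofHom (algebraMap k B))) := by
        show LocallyOfFiniteType (Spec.map (Spec.preimage _))
        rw [Spec.map_preimage]; infer_instance
      rw [HasRingHomProperty.Spec_iff (P := @LocallyOfFiniteType)] at h
      exact RingHom.finiteType_algebraMap.1 h
    obtain ⟨m, hm, hle⟩ := Ideal.exists_le_maximal _
      ((eU.inv.left u₁ : PrimeSpectrum B).isPrime.ne_top)
    let κ := B ⧸ m
    let : Field κ := Ideal.Quotient.field m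
    have : Algebra.FiniteType k κ := Algebra.FiniteType.of_surjective (Ideal.Quotient.mkₐ k m)
      (Ideal.Quotient.mkₐ_surjective k m)
    have : Module.Finite k κ := finite_of_finite_type_of_isJacobsonRing k κ
    let mk : B →ₐ[k] κ := Ideal.Quotient.mkₐ k m
    let g := (yon _).map (specHom mk ≫ eU.hom) ≫ a
    let x₀ := Points.ofPt g (IsLocalRing.closedPoint κ)
    have hspec : Points.ofPt a u₁ ⤳ x₀ := by
      have h1 : (eU.inv.left u₁ : PrimeSpectrum B) ⤳ (specHom mk).left (IsLocalRing.closedPoint κ) := by
        refine (PrimeSpectrum.le_iff_specializes _ _).1 ?_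
        show (eU.inv.left u₁ : PrimeSpectrum B).asIdeal ≤ _
        rw [specHom_closedPoint]
        exact hle.trans (Ideal.mk_ker (I := m)).ge
      have h2 := (h1.map eU.hom.left.continuous).map (Points.continuous_ofPt a)
      have h3 : eU.hom.left (eU.inv.left u₁) = u₁ := by
        show (eU.inv ≫ eU.hom).left u₁ = u₁
        rw [eU.inv_hom_id]; rfl
      rw [h3] at h2
      show _ ⤳ Points.ofPt g (IsLocalRing.closedPoint κ)
      rw [ofPt_map_comp]
      exact h2
    -- the fibre
    choose tpt htpt using fun σ : κ →ₐ[k] K => (bijective_ofPt_iso e).2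
      (Points.ofPt (prod.lift ((yon _).map (specHom σ) ≫ g) (𝟙 _)) (IsLocalRing.closedPoint K))
    classical
    let s : Finset ↥T.left := Finset.univ.image tpt
    obtain ⟨O, hO, hsO⟩ := h3 s fun t ht => by
      obtain ⟨σ, -, rfl⟩ := Finset.mem_image.1 ht
      obtain ⟨r, hr⟩ := (yon _).map_surjective (prod.lift ((yon _).map (specHom σ) ≫ g) (𝟙 _) ≫ e.inv)
      refine ⟨r.left, ?_, ?_⟩
      · have hrq : r ≫ q = 𝟙 _ := (yon _).map_injective (by
          rw [Functor.map_comp, hr, hq, Category.assoc, e.inv_hom_id_assoc, prod.lift_snd,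
            CategoryTheory.Functor.map_id])
        exact congrArg Over.Hom.left hrq
      · apply (bijective_ofPt_iso e).1
        refine (ofPt_map_comp r e.hom (IsLocalRing.closedPoint K)).symm.trans ?_
        rw [hr, htpt, Category.assoc, e.inv_hom_id, Category.comp_id]
    let o : Over.mk (O.ι ≫ T.hom) ⟶ T := Over.homMk O.ι rfl
    have : IsAffine (Over.mk (O.ι ≫ T.hom)).left := hO
    let i := (yon _).map o ≫ e.hom
    have hi : RepWith @IsOpenImmersion i := (repWith_respectsIso_right e.hom).2
      ((repWith_yon_map_iff _ _).2 (show IsOpenImmersion O.ι from inferInstance))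
    have hfib : ∀ z, Points.map Limits.prod.fst z = x₀ → z ∈ Set.range (Points.map i) := by
      intro z hz
      induction z using Points.ind with | h z =>
      obtain ⟨_, gz, hgz, -⟩ := exists_field_hom z
      rw [← hgz, Points.map_ofPt] at hz
      obtain ⟨M, _, _, α, β, hc⟩ := exists_common_field (gz ≫ Limits.prod.fst) g hz
      obtain ⟨b₁, hb₁⟩ := (yon _).map_surjective ((yon _).map (specHom α) ≫ gz ≫ Limits.prod.snd)
      obtain ⟨γ, rfl⟩ := exists_specHom b₁
      obtain ⟨σ, hσ⟩ := exists_factor β γ
      have e' : (yon _).map (specHom α) ≫ gz =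
          (yon _).map (specHom γ) ≫ prod.lift ((yon _).map (specHom σ) ≫ g) (𝟙 _) := by
        apply Limits.prod.hom_ext
        · rw [Category.assoc, Category.assoc, prod.lift_fst, hc, ← Category.assoc ((yon _).map (specHom γ)),
            ← Functor.map_comp, ← PurTrans14.specHom_comp, hσ]
        · rw [Category.assoc, Category.assoc, prod.lift_snd, Category.comp_id, ← hb₁]
      have hmem := hsO _ (Finset.mem_image_of_mem tpt (Finset.mem_univ σ))
      refine ⟨Points.ofScheme _ (⟨tpt σ, hmem⟩ : ↥O.toScheme), ?_⟩
      rw [← Points.ofPt_eq_map_ofScheme, ← hgz, ← ofPt_specHom α gz, e', ofPt_specHom, ← htpt σ, ofPt_map_comp]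
      rfl
    -- a quasi-compact open containing the affine
    let H₀ := Over.mk (O.ι ≫ T.hom)
    let f₀ := i ≫ Limits.prod.fst
    obtain ⟨U', a', hU', ha', hcov⟩ := Groth.Agent.S10042.exists_affine_chart_covering X.property f₀
    have : CompactSpace ↥U'.left := inferInstance
    let V : Set (Points X.obj) := Points.ofPt a' '' Set.univ
    have hV : IsOpen V := isOpenMap_ofPt a' ha' _ isOpen_univ
    have hVc : IsCompact V := isCompact_univ.image (Points.continuous_ofPt a')
    have hι := repWith_openSubι hV
    let XV : AlgSp.Space (Spec (CommRingCat.of k)) :=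
      ⟨openSub V, isAlgSpace_of_representable hι.1 X.property⟩
    have hqcV : IsQuasiCompactSp XV.obj := by
      refine (isQuasiCompactSp_iff XV.property).2 ⟨?_⟩
      rw [(isEmbedding_map_of_immersion X.property (i := openSubι V)
        ⟨hι.1, fun {T T'} g p q sq => show IsImmersion q.left from
          have : IsOpenImmersion q.left := hι.2 g p q sq
          inferInstance⟩).1.isCompact_iff, Set.image_univ, range_openSubι]
      exact hVc
    have hqsV : IsQuasiSeparatedSp XV.obj :=
      isQuasiSeparatedSp_of_mor (GrpScheme14.isQuasiSeparatedMor_of_mono (openSubι V)) hqs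
    obtain ⟨fV, hfV⟩ := exists_factor_openSub (W := V) f₀ (by
      rintro _ ⟨t, rfl⟩
      obtain ⟨t, rfl⟩ := (Points.schemeEquiv _).surjective t
      show Points.map f₀ (Points.ofScheme _ t) ∈ V
      rw [← Points.ofPt_eq_map_ofScheme]
      obtain ⟨v, hv⟩ := hcov t
      exact ⟨v, Set.mem_univ v, hv⟩)
    have sqK := isPullback_prod_map_left (openSubι V) ((yon _).obj (spec k K))
    let iV := prod.lift fV (i ≫ Limits.prod.snd)
    have hiV : iV ≫ prod.map (openSubι V) (𝟙 _) = i := by
      apply Limits.prod.hom_ext <;> simp [iV, hfV, f₀]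
    have : Mono (prod.map (openSubι V) (𝟙 ((yon _).obj (spec k K)))) := mono_of_repWith _
      (repWith_mono (fun _ _ v (_ : IsOpenImmersion v) => (inferInstance : Mono v)) (repWith_of_isPullback sqK hι))
    have hiVo : RepWith @IsOpenImmersion iV := by
      refine repWith_of_isPullback (isPullback_of_mono iV (prod.map (openSubι V) (𝟙 _))) ?_
      rw [hiV]; exact hi
    have hx₀ : x₀ ∈ Set.range (Points.map (openSubι V)) := by
      rw [range_openSubι]
      obtain ⟨y, hy⟩ := hfib (Points.ofPt (prod.lift ((yon _).map (specHom (IsAlgClosed.lift : κ →ₐ[k] K)) ≫ g) (𝟙 _))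
        (IsLocalRing.closedPoint K)) (by rw [Points.map_ofPt, prod.lift_fst, ofPt_specHom])
      obtain ⟨t, rfl⟩ := (Points.schemeEquiv _).surjective y
      obtain ⟨v, hv⟩ := hcov t
      refine ⟨v, Set.mem_univ v, hv.trans ?_⟩
      rw [Points.ofPt_eq_map_ofScheme, Points.map_comp]
      refine (congrArg (Points.map Limits.prod.fst) hy).trans ?_
      rw [Points.map_ofPt, prod.lift_fst, ofPt_specHom]
    obtain ⟨xV, hxV⟩ := hx₀
    obtain ⟨W, j, hj, hjx⟩ := exists_nhd_of_fibre XV hqcV hqsV iV hiVo xV fun z hz => by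
      obtain ⟨y, hy⟩ := hfib (Points.map (prod.map (openSubι V) (𝟙 _)) z) (by
        rw [← Points.map_comp, prod.map_fst, Points.map_comp, hz, hxV])
      refine ⟨y, injective_map_of_mono (prod.map (openSubι V) (𝟙 _)) ?_⟩
      rw [← Points.map_comp, hiV, hy]
    refine ⟨W, j ≫ openSubι V, repWith_comp hj hι, ?_⟩
    have hmem : x₀ ∈ Set.range (Points.map (j ≫ openSubι V)) := by
      obtain ⟨y, hy⟩ := hjx
      exact ⟨y, by rw [Points.map_comp, hy, hxV]⟩
    exact hspec.mem_open (isOpen_range_map_of_openImmersion (repWith_comp hj hι)) hmem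
  choose W w hw hmem using cov
  obtain ⟨Gs, ⟨es⟩⟩ := exists_iso_yon_of_points_cover (κ := ↥U₀.left) (U := fun a => W (Points.ofPt a₀ a))
    (w := fun a => w _) (fun a => hw _) fun x => by
      obtain ⟨a, rfl⟩ := surjective_ofPt hs₀ x
      exact ⟨a, hmem _⟩
  exact isRepresentable_of_iso_yon es

end

end Groth.Agent.EnoughAff14
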