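import Groth.Agent.Lib.PurTrans14.Main
import Groth.Agent.Lib.GrpScheme14.Fields
import Groth.Agent.S10411

/-!
# Affine opens descending to a finite stage
-/

universe u

set_option backward.isDefEq.respectTransparency.types false
set_option backward.isDefEq.respectTransparency false
set_option linter.unusedVariables false

open CategoryTheory CategoryTheory.Limits AlgebraicGeometry Opposite
open scoped TensorProduct

namespace Groth.Agent.EnoughAff14

open AlgSp Groth.Agent.AlgSpace Groth.Agent.AlgSpDecent Groth.Agent.FieldSpread14 Groth.Agent.LimSys14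
  Groth.Agent.GrpScheme14

noncomputable section

variable {k : Type u} [Field k]

/-- An affine open with all of its points appears at a finite stage. -/
theorem exists_stage_affine_all (X : AlgSp.Space (Spec (CommRingCat.of k))) (hqc : IsQuasiCompactSp X.obj)
    (hqs : IsQuasiSeparatedSp X.obj) {K : Type u} [Field K] [Algebra k K]
    {H : Over (Spec (CommRingCat.of k))} [IsAffine H.left]
    (i : (yon _).obj H ⟶ X.obj ⨯ (yon _).obj (spec k K))
    (hi : RepWith @IsOpenImmersion i) :
    ∃ (A : Subalgebra k K) (_ : A.FG) (HA : Over (Spec (CommRingCat.of k)))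
      (w : (yon _).obj HA ⟶ X.obj ⨯ (yon _).obj (spec k A)), IsAffine HA.left ∧
        RepWith @IsOpenImmersion w ∧ ∀ z ∈ Set.range (Points.map i),
        Points.map (prod.map (𝟙 X.obj) ((yon _).map (specHom A.val))) z ∈ Set.range (Points.map w) := by
  have : IsFiltered (Idx k K) := isFiltered_of_directed_le_nonempty _
  obtain ⟨hD, hDa, hDc, hDs, ⟨hc⟩⟩ := bigSys_facts X hqc hqs K
  let c := bigCone X.obj K
  have := compactSpace_yon_of_affine H
  obtain ⟨i₁⟩ := IsCofiltered.nonempty (C := (Idx k K)ᵒᵖ)
  obtain ⟨i₀, -, Ui, ji, r, hji, hUi, sqU⟩ := exists_open_descends hDa c hc hD hDc hDs i hi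
    ((isQuasiCompactSp_iff (IsAlgSpace.yon_obj _)).2 inferInstance) i₁
  have hUsp : IsAlgSpace Ui := isAlgSpace_of_representable hji.1 (hD i₀)
  have : Mono ji := mono_of_repWith _
    (repWith_mono (fun _ _ u (_ : IsOpenImmersion u) => (inferInstance : Mono u)) hji)
  have hUs : IsQuasiSeparatedSp Ui :=
    isQuasiSeparatedSp_of_mor (GrpScheme14.isQuasiSeparatedMor_of_mono ji) (hDs i₀)
  let t : Over.forget i₀ ⋙ bigSys X.obj K ⟶ (Functor.const (Over i₀)).obj ((bigSys X.obj K).obj i₀) :=
    overSp i₀
  let o : Over i₀ := Over.mk (𝟙 i₀)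
  have haff : ∀ j : Over o, IsAffineMor (pullback.snd (t.app j.left) ji) := fun j =>
    isAffineMor_of_isPullback (IsPullback.of_hasPullback (t.app j.left) ji) (hDa _ _ j.left.hom)
  have halg : ∀ j : Over o, IsAlgSpace (pullback (t.app j.left) ji) := fun j =>
    isAlgSpace_pullback (hD i₀) (hD j.left.left) hUsp (IsPullback.of_hasPullback (t.app j.left) ji)
  obtain ⟨l, -, HA, hHA, ⟨eA⟩⟩ := exists_isAffine_of_limit (D := bcSys t ji o) halg
    (fun _ _ φ => isAffineMor_bcMap (fun (j j' : Over i₀) (ψ : j ⟶ j') => hDa j.left j'.left ψ.left) t ji o φ)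
    (fun j => isQuasiSeparatedSp_of_mor (isQuasiSeparatedMor_of_isAffineMor (halg j) hUsp (haff j)) hUs)
    (bcCone (restrictCone c i₀) t ji o (c.π.app i₀) (fun j => c.w j.hom))
    (bcIsLimit (restrictCone c i₀) t ji o (c.π.app i₀) (fun j => c.w j.hom) (restrictIsLimit c hc i₀))
    (fun j => isQuasiCompactSp_of_mor (halg j) hUsp (isQuasiCompactMor_of_isAffineMor (halg j) hUsp (haff j)) hUi)
    H sqU.isoPullback (Over.mk (𝟙 o))
  have sql := IsPullback.of_hasPullback (t.app l.left) ji
  refine ⟨l.left.left.unop.1, l.left.left.unop.2, HA, eA.hom ≫ pullback.fst (t.app l.left) ji, hHA,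
    (repWith_respectsIso_left eA.hom).2 (repWith_of_isPullback sql.flip hji), ?_⟩
  rintro _ ⟨y, rfl⟩
  obtain ⟨x, hx, -⟩ := exists_point_lift sql (Points.map (c.π.app l.left.left) (Points.map i y))
    (Points.map r y) (by
      rw [← Points.map_comp, ← Points.map_comp, ← Points.map_comp, ← sqU.w]
      exact congrArg (fun g => Points.map g y)
        ((Category.assoc _ _ _).trans (congrArg (i ≫ ·) (c.w l.left.hom))))
  obtain ⟨x', rfl⟩ := (bijective_map_iso eA.hom).2 x
  exact ⟨x', (Points.map_comp _ _ _).trans hx⟩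

set_option maxHeartbeats 1000000

/-- An affine open over an algebraic extension containing the whole fibre gives a scheme neighbourhood. -/
theorem exists_nhd_of_fibre (X : AlgSp.Space (Spec (CommRingCat.of k))) (hqc : IsQuasiCompactSp X.obj)
    (hqs : IsQuasiSeparatedSp X.obj) {K : Type u} [Field K] [Algebra k K] [Algebra.IsIntegral k K]
    {H : Over (Spec (CommRingCat.of k))} [IsAffine H.left]
    (i : (yon _).obj H ⟶ X.obj ⨯ (yon _).obj (spec k K)) (hi : RepWith @IsOpenImmersion i) (x : Points X.obj)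
    (hx : ∀ z, Points.map Limits.prod.fst z = x → z ∈ Set.range (Points.map i)) :
    ∃ (W : Over (Spec (CommRingCat.of k))) (j : (yon _).obj W ⟶ X.obj), RepWith @IsOpenImmersion j ∧
      x ∈ Set.range (Points.map j) := by
  obtain ⟨A, hA, HA, w, hHA, hw, hall⟩ := exists_stage_affine_all X hqc hqs i hi
  have : Algebra.FiniteType k A := (Subalgebra.fg_iff_finiteType A).1 hA
  have : Algebra.IsIntegral k A := Algebra.IsIntegral.of_injective A.val Subtype.val_injective
  have : Module.Finite k A := Algebra.IsIntegral.finite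
  let : Field A := (isField_of_isIntegral_of_isField' (R := k) (Field.toIsField k)).toField
  let π : X.obj ⨯ (yon _).obj (spec k A) ⟶ X.obj := Limits.prod.fst
  let pA : X.obj ⨯ (yon _).obj (spec k K) ⟶ X.obj ⨯ (yon _).obj (spec k A) :=
    prod.map (𝟙 X.obj) ((yon _).map (specHom A.val))
  have hterm := isTerminalBase (S := Spec (CommRingCat.of k))
  have sqπ : IsPullback π Limits.prod.snd (hterm.from X.obj) (hterm.from ((yon _).obj (spec k A))) :=
    IsPullback.of_is_product' (Limits.prodIsProd _ _) hterm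
  obtain ⟨m, hm⟩ := (yon _).map_surjective (hterm.from ((yon _).obj (spec k A)))
  have hm' : m.left = Spec.map (CommRingCat.ofHom (algebraMap k A)) := by
    have := Over.w m
    simpa [spec] using this
  have hlfp : LocallyOfFinitePresentation m.left := by
    rw [hm', HasRingHomProperty.Spec_iff (P := @LocallyOfFinitePresentation)]
    exact RingHom.finitePresentation_algebraMap.2 (Algebra.FinitePresentation.of_finiteType.1 inferInstance)
  have hflat : Flat m.left := by
    rw [hm', HasRingHomProperty.Spec_iff (P := @Flat)]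
    exact RingHom.flat_algebraMap_iff.2 inferInstance
  have hfinm : IsFinite m.left := by
    rw [hm', IsFinite.SpecMap_iff]
    exact RingHom.finite_algebraMap.2 inferInstance
  have hsurj : Surjective m.left := by
    rw [hm']
    exact Groth.Agent.RelCyc15.surjective_spec k A
  have hflf : IsFinLocFreeMor π := by
    refine repWith_of_isPullback sqπ.flip ?_
    rw [← hm]
    exact (repWith_yon_map_iff _ _).2 ⟨hfinm, hflat, hlfp⟩
  have hπs : RepWith @Surjective π := by
    refine repWith_of_isPullback sqπ.flip ?_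
    rw [← hm]
    exact (repWith_yon_map_iff _ _).2 hsurj
  obtain ⟨Y', j, hj, hrep, hxj⟩ : ∃ (Y' : AlgSp.Space (Spec (CommRingCat.of k))) (j : Y' ⟶ X),
      RepWith @IsOpenImmersion j.hom ∧ Y'.obj.obj.IsRepresentable ∧ x ∈ Set.range (Points.map j.hom) := by
    refine (Groth.Agent.S10411.result
      (X := ⟨X.obj ⨯ (yon _).obj (spec k A), isAlgSpace_prod X.property (IsAlgSpace.yon_obj _)⟩) (Y := X)
      (ObjectProperty.homMk π) hflf hπs x).2 ⟨HA, w, hHA, hw, ?_⟩
    intro z hz
    change Points.map π z = _ at hz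
    induction z using Points.ind with | h q =>
    obtain ⟨_, gq, hgq, -⟩ := exists_field_hom q
    obtain ⟨b₁, hb₁⟩ := (yon _).map_surjective (gq ≫ Limits.prod.snd)
    obtain ⟨β, rfl⟩ := exists_specHom b₁
    obtain ⟨M, _, i₁, i₂, hM⟩ := FieldPt.exists_amalgamation β.toRingHom A.val.toRingHom
    let : Algebra k M := (i₁.comp (algebraMap k q.K)).toAlgebra
    let α : q.K →ₐ[k] M := ⟨i₁, fun _ => rfl⟩
    let γ : K →ₐ[k] M := ⟨i₂, fun c => by
      show i₂ (algebraMap k K c) = i₁ (algebraMap k q.K c)
      rw [← β.commutes c, ← A.val.commutes c]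
      exact (RingHom.congr_fun hM (algebraMap k A c)).symm⟩
    have hcomp : α.comp β = γ.comp A.val := AlgHom.coe_ringHom_injective hM
    let zK := prod.lift ((yon _).map (specHom α) ≫ gq ≫ π) ((yon _).map (specHom γ))
    obtain ⟨y, hy⟩ := hall _ (hx (Points.ofPt zK (IsLocalRing.closedPoint M)) (by
      rw [Points.map_ofPt, prod.lift_fst, ofPt_specHom, ← Points.map_ofPt, hgq]
      exact hz))
    have e : zK ≫ pA = (yon _).map (specHom α) ≫ gq := by
      apply Limits.prod.hom_ext
      · simp [zK, pA, π]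
      · simp only [zK, pA, Category.assoc, prod.map_snd, prod.lift_snd_assoc, ← hb₁, ← Functor.map_comp,
          ← PurTrans14.specHom_comp, hcomp]
    obtain ⟨t, rfl⟩ := (Points.schemeEquiv _).surjective y
    refine ⟨t, ?_⟩
    rw [Points.ofPt_eq_map_ofScheme]
    refine hy.trans ?_
    rw [Points.map_ofPt, e, ofPt_specHom, hgq]
  obtain ⟨W, ⟨e⟩⟩ := AlgSpDecent.exists_yon_iso_of_isRepresentable hrep
  refine ⟨W, e.hom ≫ j.hom, (repWith_respectsIso_left e.hom).2 hj, ?_⟩
  obtain ⟨y, hy⟩ := hxj
  obtain ⟨y', rfl⟩ := (bijective_map_iso e.hom).2 y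
  exact ⟨y', by rw [Points.map_comp]; exact hy⟩

end

end Groth.Agent.EnoughAff14
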